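import Groth.Agent.CohDimFormalLib.Main
import Groth.Agent.CdLefLib.Vanish
import Groth.Agent.PnDualLib.HomExt
import Groth.Agent.SurfExtLib.Bidual
import Groth.Agent.LimHomLib.ExtendFP
import Groth.Agent.CurvLib.SupportVanish
import Groth.Agent.DevissExtLib.Tools
import Groth.Agent.LeffEtLib.Restrict

/-!
# Finiteness of cohomology of locally free modules below the codimension of the complement

A class on `U` in `Hom(G, ω[i])` comes from a class on `X`, since by duality the obstruction lives in the cohomology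
of a module supported on the small complement.
-/

set_option autoImplicit false
set_option linter.style.haveILetI false
set_option linter.unusedSectionVars false
set_option maxHeartbeats 1000000
set_option synthInstance.maxHeartbeats 200000
set_option backward.isDefEq.respectTransparency false
set_option backward.isDefEq.respectTransparency.types false

universe u

open CategoryTheory CategoryTheory.Limits AlgebraicGeometry TopologicalSpace DerivedCategory Abelian
open Groth.Agent

attribute [local instance] HasDerivedCategory.standard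

noncomputable section

namespace CdFiniteLib

variable {k : Type u} [Field k] {X : Scheme.{u}} [X.Over (Spec (CommRingCat.of k))]

/-- The complex in degree zero, the Deligne system and the inclusion. -/
theorem deligneι_eq (I : X.IdealSheafData) (M : X.Modules) (a : ℕ) :
    DerivedCategory.Q.map (Dual3.deligneι I a ((HomologicalComplex.single X.Modules (ComplexShape.up ℤ) 0).obj M)) ≫
        (DerivedCategory.singleFunctorIsoCompQ X.Modules 0).inv.app M =
      (CohDimFormalLib.deligneIso I M a).hom ≫ (singleFunctor X.Modules 0).map (Dual3.idealMulι (I ^ a) M) := by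
  have h1 : Dual3.deligneι I a ((HomologicalComplex.single X.Modules (ComplexShape.up ℤ) 0).obj M) =
      (HomologicalComplex.singleMapHomologicalComplex (Dual3.idealMul (I ^ a)) (ComplexShape.up ℤ) 0).hom.app M ≫
        (HomologicalComplex.single X.Modules (ComplexShape.up ℤ) 0).map (Dual3.idealMulι (I ^ a) M) := by
    apply HomologicalComplex.to_single_hom_ext
    simp only [HomologicalComplex.comp_f, HomologicalComplex.singleMapHomologicalComplex_hom_app_self,
      HomologicalComplex.single_map_f_self, Category.assoc, Iso.inv_hom_id_assoc]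
    show Dual3.idealMulι (I ^ a) _ = _
    rw [← Category.assoc]
    exact (cancel_mono (HomologicalComplex.singleObjXSelf (ComplexShape.up ℤ) 0 M).hom).1 (by
      rw [Category.assoc, Category.assoc, Iso.inv_hom_id, Category.comp_id]
      exact (Dual3.idealMul_map_ι (I ^ a) _).symm)
  have h2 := (DerivedCategory.singleFunctorIsoCompQ X.Modules 0).inv.naturality (Dual3.idealMulι (I ^ a) M)
  rw [h1, Functor.map_comp, Category.assoc]
  simp only [CohDimFormalLib.deligneIso, Iso.trans_hom, Functor.mapIso_hom, Iso.app_hom, Iso.symm_hom, Iso.app_inv,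
    Category.assoc]
  exact congrArg _ h2

variable [IsProper (X ↘ Spec (CommRingCat.of k))] {U : X.Opens}

/-- Classes out of the twisted ideal extend, when the obstruction vanishes. -/
theorem exists_extension (n : ℕ) {ω : X.Modules} (t : (Dual3Lib.uO X ⟶ (DCoh.inD X ω)⟦(n : ℤ)⟧) →ₗ[k] k)
    (hbij : ∀ G : X.Modules, Coh.IsQCoh G → ∀ (j m : ℤ) (h : j + m = (n : ℤ)),
      Function.Bijective (FieldDualLib.pairing t G j m h))
    (J : X.IdealSheafData) {s : ℕ} (hs : topologicalKrullDim (J.support : Set X) ≤ (s : WithBot ℕ∞))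
    {D : X.Modules} (hD : Coh.IsCoh D) (i : ℕ) (hi : i + s + 1 < n)
    (φ : DCoh.inD X ((Dual3.idealMul J).obj D) ⟶ (DCoh.inD X ω)⟦(i : ℤ)⟧) :
    ∃ ψ : DCoh.inD X D ⟶ (DCoh.inD X ω)⟦(i : ℤ)⟧, (singleFunctor X.Modules 0).map (Dual3.idealMulι J D) ≫ ψ = φ := by
  haveI : IsNoetherian X := CurvLib.isNoetherian k (X := X)
  haveI : EnoughInjectives X.Modules := ModSiteLib.sheafOfModules_enoughInjectives (R := X.ringCatSheaf)
  haveI : HasExt.{u} X.Modules := hasExt_of_enoughInjectives.{u} _
  haveI := hD.1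
  let m := n - i
  have hm : (i : ℤ) + (m : ℤ) = (n : ℤ) := by omega
  haveI : Epi (FormalCohLib.quotKπ J D) :=
    DefClassLib.epi_of_affines _ fun V => FormalCohLib.app_quotKπ_surjective _ D V.2
  have hS : (ShortComplex.mk _ _ (CohExtLib.idealMulι_π J D)).ShortExact :=
    { exact := ShortComplex.exact_of_f_is_kernel _ (kernelIsKernel _)
      mono_f := Dual3.mono_idealMulι _ _
      epi_g := ‹_› }
  haveI : Subsingleton (Coh.HH X ((FormalCohLib.quotK J).obj D) (m - 1)) :=
    CurvLib.subsingleton_HH_of_support _ J.support.isClosed (fun y hy => by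
      by_contra h
      exact DevissExt.notMem_support_quot J h D hy) hs _ (by omega)
  have hker : ∀ m' : ℕ, m = m' + 1 → ∀ x, CurvLib.hMap (k := k) (Dual3.idealMulι J D) (m' + 1) x = 0 → x = 0 := by
    intro m' hm' x hx
    haveI hz : Subsingleton (Coh.HH X ((FormalCohLib.quotK J).obj D) m') := by
      rwa [hm', Nat.add_sub_cancel] at this
    obtain ⟨y, rfl⟩ : x ∈ LinearMap.range (CurvLib.hDel (k := k) hS m') :=
      (CurvLib.exact₁ hS m').ge (LinearMap.mem_ker.2 hx)
    exact (congrArg _ (hz.elim y 0)).trans (map_zero _)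
  have hinj : Function.Injective (CurvLib.hMap (k := k) (Dual3.idealMulι J D) m) := by
    obtain ⟨m', hm'⟩ : ∃ m', m = m' + 1 := ⟨m - 1, by omega⟩
    rw [hm']
    exact LinearMap.ker_eq_bot.1 (LinearMap.ker_eq_bot'.2 (hker m' hm'))
  let L : (Dual3Lib.uO X ⟶ (DCoh.inD X ((Dual3.idealMul J).obj D))⟦(m : ℤ)⟧) →ₗ[k]
      (Dual3Lib.uO X ⟶ (DCoh.inD X D)⟦(m : ℤ)⟧) :=
    Linear.rightComp k _ ((shiftFunctor (DCoh.D X) (m : ℤ)).map ((singleFunctor X.Modules 0).map (Dual3.idealMulι J D)))
  have hL : Function.Injective L := fun x y h => by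
    refine (FieldDualLib.homEquivHH (k := k) _ m).injective (hinj ?_)
    exact ((FieldDualLib.homEquivHH_natural (k := k) _ m x).symm.trans
      (congrArg (FieldDualLib.homEquivHH (k := k) D m) h)).trans (FieldDualLib.homEquivHH_natural (k := k) _ m y)
  obtain ⟨g, hg⟩ := LinearMap.dualMap_surjective_of_injective hL
    (FieldDualLib.pairing t ((Dual3.idealMul J).obj D) _ _ hm φ)
  obtain ⟨ψ, hψ⟩ := (hbij D hD.1 _ _ hm).2 g
  refine ⟨ψ, (hbij _ (CohExtLib.isCoh_idealMul J hD).1 _ _ hm).1 (LinearMap.ext fun x => ?_)⟩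
  rw [FieldDualLib.pairing_natural, hψ, ← hg]
  rfl

/-- The restriction of scalars is compatible with restriction to an open. -/
theorem restrict_smul (U : X.Opens) {M N : X.Modules} (c : k) (φ : M ⟶ N) :
    (Scheme.Modules.restrictFunctor U.ι).map (c • φ) = c • (Scheme.Modules.restrictFunctor U.ι).map φ := by
  refine Scheme.Modules.hom_ext _ _ fun V => ConcreteCategory.hom_ext _ _ fun m => ?_
  refine (KLin.smul_app_apply c φ (U.ι ''ᵁ V) m).trans ?_
  refine Eq.trans ?_ (KLin.smul_app_apply c ((Scheme.Modules.restrictFunctor U.ι).map φ) V m).symm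
  have key : X.presheaf.map (homOfLE (le_top : U.ι ''ᵁ V ≤ ⊤)).op (Coh.toGlobal (X ↘ Spec (CommRingCat.of k)) c) =
      (U.ι.appIso V).inv ((U : Scheme.{u}).presheaf.map (homOfLE (le_top : V ≤ ⊤)).op
        (Coh.toGlobal ((U : Scheme.{u}) ↘ Spec (CommRingCat.of k)) c)) := by
    simp only [Scheme.Opens.ι_appIso, Iso.refl_inv]
    rw [show ((U : Scheme.{u}) ↘ Spec (CommRingCat.of k)) = U.ι ≫ (X ↘ Spec (CommRingCat.of k)) from rfl,
      KLin.toGlobal_comp, Scheme.Opens.ι_appTop]
    exact (ConcreteCategory.congr_hom (X.presheaf.map_comp _ _) _)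
  rw [key]
  rfl

/-- The restriction map on classes, linearly. -/
def restr (U : X.Opens) (M N : X.Modules) (i : ℕ) :
    (DCoh.inD X M ⟶ (DCoh.inD X N)⟦(i : ℤ)⟧) →ₗ[k]
      (DCoh.inD _ ((Scheme.Modules.restrictFunctor U.ι).obj M) ⟶
        (DCoh.inD _ ((Scheme.Modules.restrictFunctor U.ι).obj N))⟦(i : ℤ)⟧) where
  toFun ψ := ((Scheme.Modules.restrictFunctor U.ι).mapDerivedCategorySingleFunctor 0).inv.app M ≫
    (DCoh.restrictD U.ι).map ψ ≫ ((DCoh.restrictD U.ι).commShiftIso (i : ℤ)).hom.app (DCoh.inD X N) ≫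
      (shiftFunctor _ (i : ℤ)).map (((Scheme.Modules.restrictFunctor U.ι).mapDerivedCategorySingleFunctor 0).hom.app N)
  map_add' ψ ψ' := by
    simp only [Functor.map_add, Preadditive.add_comp, Preadditive.comp_add]
  map_smul' c ψ := by
    let R := Scheme.Modules.restrictFunctor U.ι
    have h1 : c • ψ = ψ ≫ (shiftFunctor (DCoh.D X) (i : ℤ)).map ((singleFunctor X.Modules 0).map (c • 𝟙 N)) := by
      rw [Functor.map_smul, Functor.map_smul, CategoryTheory.Functor.map_id, CategoryTheory.Functor.map_id,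
        Linear.comp_smul, Category.comp_id]
    have h2 := ((DCoh.restrictD U.ι).commShiftIso (i : ℤ)).hom.naturality ((singleFunctor X.Modules 0).map (c • 𝟙 N))
    have h3 := (R.mapDerivedCategorySingleFunctor 0).hom.naturality (c • 𝟙 N)
    simp only [Functor.comp_map] at h2 h3
    rw [h1, Functor.map_comp, Category.assoc, reassoc_of% h2, ← Functor.map_comp]
    erw [h3]
    rw [Functor.map_comp]
    simp only [R, restrict_smul, CategoryTheory.Functor.map_id, Functor.map_smul, Linear.comp_smul, Category.comp_id,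
      RingHom.id_apply]
    erw [CategoryTheory.Functor.map_id, Category.comp_id]

/-- **Finiteness below the codimension of the complement.** -/
theorem finite_HH_of_finLocFree [IsIntegral X] (hreg : ∀ x : X, IsRegularLocalRing (X.presheaf.stalk x))
    (n : ℕ) (hdim : topologicalKrullDim X = n) (U : X.Opens) (s : ℕ)
    (hY : topologicalKrullDim ((U : Set X)ᶜ : Set X) ≤ (s : WithBot ℕ∞))
    (F : (U : Scheme.{u}).Modules) (hF : FlatMod.IsFinLocFree F) (i : ℕ) (hi : i + s + 1 < n) :
    Module.Finite k (Coh.HH (U : Scheme.{u}) F i) := by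
  haveI : IsNoetherian X := CurvLib.isNoetherian k (X := X)
  haveI : IsNoetherian (U : Scheme.{u}) := Groth.Agent.LocImmLib.isNoetherian_opens U
  haveI : EnoughInjectives X.Modules := ModSiteLib.sheafOfModules_enoughInjectives (R := X.ringCatSheaf)
  haveI : HasExt.{u} X.Modules := hasExt_of_enoughInjectives.{u} _
  haveI : EnoughInjectives (U : Scheme.{u}).Modules :=
    ModSiteLib.sheafOfModules_enoughInjectives (R := (U : Scheme.{u}).ringCatSheaf)
  haveI : HasExt.{u} (U : Scheme.{u}).Modules := hasExt_of_enoughInjectives.{u} _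
  obtain ⟨ω, t, hω, hωc, hbij⟩ := CdLefLib.exists_duality_invertible (k := k) hreg n hdim
  let R := Scheme.Modules.restrictFunctor U.ι
  let ωU := R.obj ω
  have hωU : PicF.IsInvertible ωU :=
    HilbPolyLib.isInvertible_of_iso ((Scheme.Modules.restrictFunctorIsoPullback U.ι).app ω).symm
      (AmpleDevLib.isInvertible_pb U.ι hω)
  let G := CohCmpLib.homMod F ωU
  have hG : FlatMod.IsFinLocFree G := CohCmpLib.isFinLocFree_homMod hF (AmpleDevLib.isFinLocFree_of_isInvertible hωU)
  have hGc : Coh.IsCoh G := LocSuppLib.isCoh_of_isFinLocFree hG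
  haveI := hGc.1
  haveI : Coh.IsQCoh (Coh.structureModule X) := (DevissLib.isCoh_structureModule X).1
  obtain ⟨D, -, e, hD', -⟩ := LimHomLib.exists_fp_extension U (NoetherianSpace.isCompact _) (Coh.structureModule X) G
    (QCohLib.isFP_of_isCoh G hGc) 0
  haveI := HilbLCLib.isQCoh_of_isFP hD'
  have hD : Coh.IsCoh D := ConsLib.isCoh_of_isFP hD'
  let 𝓘 : X.IdealSheafData := Scheme.IdealSheafData.vanishingIdeal (⟨(U : Set X)ᶜ, U.2.isClosed_compl⟩ : Closeds X)
  have hI' : (𝓘.support : Set X) = (U : Set X)ᶜ := Scheme.IdealSheafData.coe_support_vanishingIdeal _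
  have hU : (U : Set X) = (𝓘.support : Set X)ᶜ := by rw [hI', compl_compl]
  -- surjectivity
  have hsurj : Function.Surjective (restr (k := k) U D ω i) := by
    intro β
    let e₁ := (R.mapDerivedCategorySingleFunctor 0).app D
    let e₂ := ((DCoh.restrictD U.ι).commShiftIso (i : ℤ)).app (DCoh.inD X ω) ≪≫
        (shiftFunctor _ (i : ℤ)).mapIso ((R.mapDerivedCategorySingleFunctor 0).app ω)
    let α := e₁.hom ≫ β ≫ e₂.inv
    have hI : 𝓘.supportSetᶜ = Set.range U.ι := (U.range_ι.trans hU).symm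
    let C₀ := (HomologicalComplex.single X.Modules (ComplexShape.up ℤ) 0).obj D
    have hC₀ : DCoh.VanishesOutside C₀ 0 0 := fun q hq =>
      HomologicalComplex.isZero_single_obj_X _ _ _ _ (by omega)
    have hC₀c : ∀ q, Coh.IsCoh (C₀.X q) := fun q => by
      rcases eq_or_ne q 0 with rfl | hq
      · exact QCohLib.isCoh_of_iso (HomologicalComplex.singleObjXSelf _ 0 D).symm hD
      · exact DevissLib.isCoh_of_isZero (HomologicalComplex.isZero_single_obj_X _ _ _ _ hq)
    have hL : DCoh.IsCohD ((DCoh.inD X ω)⟦(i : ℤ)⟧) := Dual3Lib.isCohD_shift (HTorCohLib.isCohD_inD hωc) _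
    have hge : ∀ j : ℤ, j < -(i : ℤ) → IsZero (DCoh.HD ((DCoh.inD X ω)⟦(i : ℤ)⟧) j) := fun j hj => by
      haveI : DerivedCategory.IsGE ((DCoh.inD X ω)⟦(i : ℤ)⟧) (-(i : ℤ)) :=
        DerivedCategory.TStructure.t.isGE_shift (DCoh.inD X ω) 0 (i : ℤ) (-(i : ℤ)) (by omega)
      exact DerivedCategory.isZero_of_isGE _ (-(i : ℤ)) j hj
    let σ := (DerivedCategory.singleFunctorIsoCompQ X.Modules 0).app D
    obtain ⟨a, φ, hφ⟩ := (Groth.Agent.S3664.result (U : Scheme.{u}) X U.ι 𝓘 hI C₀ 0 0 hC₀ hC₀c _ hL (-(i : ℤ)) hge).1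
      ((DCoh.restrictD U.ι).map σ.inv ≫ α)
    have hsupp : topologicalKrullDim ((𝓘 ^ a).support : Set X) ≤ (s : WithBot ℕ∞) := by
      refine le_trans ?_ hY
      refine (Topology.IsEmbedding.inclusion fun y hy => ?_).isInducing.topologicalKrullDim_le
      rw [← hI']
      by_contra h
      exact CohExtLib.notMem_support_pow a h hy
    obtain ⟨ψ, hψ⟩ := exists_extension n t hbij (𝓘 ^ a) hsupp hD i hi
      ((CohDimFormalLib.deligneIso 𝓘 D a).inv ≫ φ)
    refine ⟨ψ, ?_⟩
    have h1 : φ = DerivedCategory.Q.map (Dual3.deligneι 𝓘 a C₀) ≫ σ.inv ≫ ψ := by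
      rw [← Category.assoc]
      erw [deligneι_eq]
      rw [Category.assoc, hψ, Iso.hom_inv_id_assoc]
    haveI : IsIso ((DCoh.restrictD U.ι).map (DerivedCategory.Q.map (Dual3.deligneι 𝓘 a C₀))) :=
      CdLefLib.isIso_restrict_deligneι (U := U) hU D a
    have h2 : (DCoh.restrictD U.ι).map ψ = α := by
      rw [← cancel_epi ((DCoh.restrictD U.ι).map σ.inv),
        ← cancel_epi ((DCoh.restrictD U.ι).map (DerivedCategory.Q.map (Dual3.deligneι 𝓘 a C₀))), hφ, h1,
        Functor.map_comp, Functor.map_comp]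
    show e₁.inv ≫ (DCoh.restrictD U.ι).map ψ ≫ e₂.hom = β
    rw [h2, Category.assoc, Category.assoc, Iso.inv_hom_id, Category.comp_id, Iso.inv_hom_id_assoc]
  -- finiteness of the source
  haveI : Module.Finite k (Coh.HH X D (n - i)) := CurvLib.finite_HH (k := k) hD _
  haveI : Module.Finite k (Dual3Lib.uO X ⟶ (DCoh.inD X D)⟦((n - i : ℕ) : ℤ)⟧) :=
    Module.Finite.equiv (FieldDualLib.homEquivHH (k := k) D (n - i)).symm
  haveI : Module.Finite k (DCoh.inD X D ⟶ (DCoh.inD X ω)⟦(i : ℤ)⟧) :=
    Module.Finite.of_injective _ (hbij D hD.1 (i : ℤ) ((n - i : ℕ) : ℤ) (by omega)).1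
  haveI : Module.Finite k (DCoh.inD _ (R.obj D) ⟶ (DCoh.inD _ ωU)⟦(i : ℤ)⟧) :=
    Module.Finite.of_surjective _ hsurj
  haveI : Module.Finite k (Ext (R.obj D) ωU i) :=
    Module.Finite.equiv (Ext.homLinearEquiv (R := k) (X := R.obj D) (Y := ωU) (n := i)).symm
  have hGR : FlatMod.IsFinLocFree (R.obj D) := PerfLib.isFinLocFree_of_iso e.symm hG
  obtain ⟨eE⟩ := PnDualLib.nonempty_ext_homMod (k := k) hGR i ωU
  haveI : Module.Finite k (Coh.HH (U : Scheme.{u}) (CohCmpLib.homMod (R.obj D) ωU) i) := Module.Finite.equiv eE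
  haveI := SurfExtLib.isIso_ev ωU hωU hF
  let d : CohCmpLib.homMod (R.obj D) ωU ≅ F :=
    ({ hom := PnDualLib.preMap e.inv ωU
       inv := PnDualLib.preMap e.hom ωU
       hom_inv_id := (ExtShLib.preMap_comp e.hom e.inv ωU).trans
         ((congrArg (PnDualLib.preMap · ωU) e.hom_inv_id).trans (ExtShLib.preMap_id _ _))
       inv_hom_id := (ExtShLib.preMap_comp e.inv e.hom ωU).trans
         ((congrArg (PnDualLib.preMap · ωU) e.inv_hom_id).trans (ExtShLib.preMap_id _ _)) } :
      CohCmpLib.homMod (R.obj D) ωU ≅ CohCmpLib.homMod G ωU) ≪≫ (asIso (SurfExtLib.ev ωU F)).symm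
  refine Module.Finite.of_surjective (CurvLib.hMap (k := k) d.hom i) fun x =>
    ⟨CurvLib.hMap (k := k) d.inv i x, ?_⟩
  rw [← CurvLib.hMap_comp, d.inv_hom_id, CurvLib.hMap_apply, CategoryTheory.Functor.map_id]
  exact CategoryTheory.Sheaf.H.map_id_apply _

end CdFiniteLib
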